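import Groth.Agent.AVSplitLib.Retraction
import Groth.Agent.AVSimpleLib.Basic
import Groth.Agent.Lib.AVMulN

/-! Poincaré complete reducibility and regularity of the rational endomorphism algebra. -/

noncomputable section

universe u

set_option linter.style.haveILetI false
set_option linter.unusedSectionVars false
set_option backward.isDefEq.respectTransparency false
set_option backward.isDefEq.respectTransparency.types false
set_option maxHeartbeats 1000000
set_option synthInstance.maxHeartbeats 200000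

open CategoryTheory CategoryTheory.Limits MonoidalCategory CartesianMonoidalCategory AlgebraicGeometry
open scoped MonObj

namespace Groth.Agent.AVSplitLib

open Groth.Agent

variable {k : Type u} [Field k] {A : Over (Spec (CommRingCat.of k))}
  [GrpObj A] [IsProper A.hom] [GeometricallyIntegral A.hom]

/-- The image of an endomorphism as an abelian subvariety. -/
theorem exists_image {B : Over (Spec (CommRingCat.of k))} [GrpObj B] [IsProper B.hom] [GeometricallyIntegral B.hom]
    (f : B ⟶ A) [IsMonHom f] :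
    ∃ (N : Over (Spec (CommRingCat.of k))) (_ : GrpObj N) (j : N ⟶ A) (f' : B ⟶ N) (_ : IsMonHom j) (_ : IsMonHom f'),
      IsClosedImmersion j.left ∧ IsProper N.hom ∧ GeometricallyIntegral N.hom ∧ Surjective f'.left ∧ f' ≫ j = f := by
  haveI : IsCommMonObj A := isCommMonObj_of_isProper_of_geometricallyIntegral A
  obtain ⟨N, iN, j, hj, hjc, hNp, hNg, hr⟩ := H23.MaxAbelian.exists_image f
    ⟨η[B], IsMonHom.one_hom (f := f)⟩
    ⟨μ[B], by rw [IsMonHom.mul_hom (f := f), Hom.mul_def]; congr 1⟩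
    ⟨(𝟙 B)⁻¹, by rw [GrpObj.inv_comp, Category.id_comp]⟩
  haveI := hj; haveI := hjc
  haveI : IsIntegral B.left := GeometricallyIntegral.isIntegral_of_subsingleton B.hom
  obtain ⟨g, hg⟩ := H23.RedSub.exists_lift_closed f.left j.left hr.symm.subset
  let f' : B ⟶ N := Over.homMk g (by rw [← Over.w j, ← Category.assoc, hg, Over.w])
  have hf' : f' ≫ j = f := Over.OverMorphism.ext hg
  haveI : Mono j := Over.mono_of_mono_left j
  haveI : IsMonHom f' :=
    ⟨by rw [← cancel_mono j, Category.assoc, hf', IsMonHom.one_hom, IsMonHom.one_hom],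
     by rw [← cancel_mono j, Category.assoc, hf', IsMonHom.mul_hom (f := f), Category.assoc,
          IsMonHom.mul_hom (f := j), ← Category.assoc,
          MonoidalCategory.tensorHom_comp_tensorHom, hf']⟩
  haveI : Surjective f'.left := ⟨fun y => by
    obtain ⟨x, hx⟩ := hr.subset ⟨y, rfl⟩
    exact ⟨x, j.left.isEmbedding.injective (by rw [← hx, ← hf']; rfl)⟩⟩
  exact ⟨N, iN, j, f', inferInstance, inferInstance, hjc, hNp, hNg, inferInstance, hf'⟩

variable [IsCommMonObj A]

/-- The endomorphism ring is regular up to positive integers. -/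
theorem exists_mul_mul_eq (φ : EndAV.End A) : ∃ (ψ : EndAV.End A) (n : ℕ), 0 < n ∧ φ * ψ * φ = n • φ := by
  obtain ⟨N, _, j, f', _, _, _, _, _, _, hf'⟩ := exists_image φ.toHom
  haveI : IsCommMonObj N := isCommMonObj_of_isProper_of_geometricallyIntegral N
  obtain ⟨s, _, n, hn, hs⟩ := exists_quasiSection f'
  obtain ⟨h, _, m, hm, hh⟩ := exists_retraction j
  refine ⟨EndAV.End.of (h ≫ s), m * n, Nat.mul_pos hm hn, EndAV.End.ext ?_⟩
  rw [EndAV.End.toHom_mul, EndAV.End.toHom_mul, EndAV.End.toHom_of, EndAV.End.toHom_nsmul, ← hf']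
  calc (f' ≫ j) ≫ (h ≫ s) ≫ f' ≫ j = f' ≫ ((j ≫ h) ≫ (s ≫ f')) ≫ j := by simp only [Category.assoc]
    _ = f' ≫ ((𝟙 N ^ m) ≫ (𝟙 N ^ n)) ≫ j := by rw [hh, hs]
    _ = (f' ≫ j) ^ (m * n) := by
        simp only [MonObj.comp_pow, MonObj.pow_comp, Category.comp_id, Category.id_comp, ← pow_mul]

/-- The rational endomorphism algebra is von Neumann regular. -/
theorem exists_regular (x : EndAV.End0 A) : ∃ y : EndAV.End0 A, x * y * x = x := by
  obtain ⟨q, φ, rfl⟩ := AVSimpleLib.exists_toEnd0 x
  rcases eq_or_ne q 0 with rfl | hq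
  · exact ⟨0, by simp⟩
  obtain ⟨ψ, n, hn, h⟩ := exists_mul_mul_eq φ
  refine ⟨(q * n)⁻¹ • EndAV.toEnd0 ψ, ?_⟩
  have h' : EndAV.toEnd0 φ * EndAV.toEnd0 ψ * EndAV.toEnd0 φ = (n : ℚ) • EndAV.toEnd0 φ := by
    rw [← map_mul, ← map_mul, h, map_nsmul, Nat.cast_smul_eq_nsmul]
  simp only [smul_mul_assoc, mul_smul_comm, smul_smul, h']
  congr 1
  have : (n : ℚ) ≠ 0 := Nat.cast_ne_zero.2 hn.ne'
  field_simp

end Groth.Agent.AVSplitLib
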