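import Groth.Agent.AVSplitLib.Transversal
import Groth.Agent.FibDim.Semicont
import Groth.Agent.FibDim.Minimal
import Groth.Agent.FibDim.BaseChange
import Groth.Agent.CycLib.Finite
import Groth.Agent.H23.MaxAbelian
import Groth.Agent.H23.RatExtend
import Mathlib.AlgebraicGeometry.Group.Abelian

/-! A finite correspondence from an abelian variety to an abelian subvariety. -/

noncomputable section

universe u

set_option linter.style.haveILetI false
set_option linter.unusedSectionVars false
set_option backward.isDefEq.respectTransparency false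
set_option backward.isDefEq.respectTransparency.types false
set_option maxHeartbeats 1000000
set_option synthInstance.maxHeartbeats 200000

open CategoryTheory CategoryTheory.Limits MonoidalCategory CartesianMonoidalCategory AlgebraicGeometry
open scoped MonObj

namespace Groth.Agent.AVSplitLib

open Groth.Agent

variable {k : Type u} [Field k]

theorem fdeg_eq_rd {X Y : Scheme.{u}} (f : X ⟶ Y) [LocallyOfFiniteType f] (x : X) :
    VarDim.fdeg f x = FibDim.rd f x := by
  rw [VarDim.fdeg, ← FibDim.rd_eq_rdeg, Cardinal.toNat_natCast]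

theorem deg_eq_rd {X : Scheme.{u}} (q : X ⟶ Spec (CommRingCat.of k)) [LocallyOfFiniteType q] (x : X) :
    VarDim.deg q x = FibDim.rd q x := by
  rw [VarDim.deg, VarDim.tdeg_eq_rdeg, ← FibDim.rd_eq_rdeg, Cardinal.toNat_natCast]

/-- A map to a variety from a point lying over the origin is trivial. -/
theorem eq_one_of_pt {S A : Over (Spec (CommRingCat.of k))} [GrpObj A] [IsSeparated A.hom] [IsReduced S.left]
    (f : S ⟶ A) (h : ∀ s : S.left, f.left s = η[A].left (IsLocalRing.closedPoint k)) : f = 1 := by
  let e : Spec (CommRingCat.of k) ⟶ A.left := η[A].left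
  have he : e ≫ A.hom = 𝟙 _ := Over.w η[A]
  haveI : IsClosedImmersion (e ≫ A.hom) := by rw [he]; infer_instance
  haveI : IsClosedImmersion e := IsClosedImmersion.of_comp e A.hom
  obtain ⟨u, hu⟩ := H23.RedSub.exists_lift_closed f.left e (by
    rintro _ ⟨s, rfl⟩
    exact ⟨_, (h s).symm⟩)
  have hua : u = S.hom := by
    rw [← Category.comp_id u, ← he, ← Category.assoc, hu]
    exact Over.w f
  subst hua
  exact Over.OverMorphism.ext hu.symm

variable {A B : Over (Spec (CommRingCat.of k))}
  [GrpObj A] [IsProper A.hom] [GeometricallyIntegral A.hom]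
  [GrpObj B] [IsProper B.hom] [GeometricallyIntegral B.hom]

/-- A subvariety of `A` such that adding the subgroup gives a generically finite surjection onto `A`. -/
theorem exists_correspondence [IsIntegral A.left] (i : B ⟶ A) [IsMonHom i] [IsClosedImmersion i.left] :
    ∃ (Z : Over (Spec (CommRingCat.of k))) (_ : IsProper Z.hom) (j : Z ⟶ A) (ξ : (B ⊗ Z).left),
      ((fst B Z ≫ i) * (snd B Z ≫ j)).left ξ = genericPoint A.left ∧
      (∀ w : (B ⊗ Z).left, ((fst B Z ≫ i) * (snd B Z ≫ j)).left w = genericPoint A.left → w = ξ) ∧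
      (((fst B Z ≫ i) * (snd B Z ≫ j)).left.residueFieldMap ξ).hom.Finite := by
  haveI : IsCommMonObj A := isCommMonObj_of_isProper_of_geometricallyIntegral A
  haveI : IsIntegral A.left := GeometricallyIntegral.isIntegral_of_subsingleton A.hom
  haveI : IsIntegral B.left := GeometricallyIntegral.isIntegral_of_subsingleton B.hom
  haveI : Subsingleton ↥(Spec (CommRingCat.of k)) := inferInstanceAs (Subsingleton (PrimeSpectrum k))
  let o := IsLocalRing.closedPoint k
  let b₀ : B.left := η[B].left o
  have hb₀ : IsClosed ({b₀} : Set B.left) := by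
    let e : Spec (CommRingCat.of k) ⟶ B.left := η[B].left
    have he : e ≫ B.hom = 𝟙 _ := Over.w η[B]
    haveI : IsClosedImmersion (e ≫ B.hom) := by rw [he]; infer_instance
    haveI : IsClosedImmersion e := IsClosedImmersion.of_comp e B.hom
    have hr : Set.range e = {b₀} := Set.eq_singleton_iff_unique_mem.2
      ⟨⟨_, rfl⟩, fun y ⟨x, hx⟩ => hx ▸ congrArg e (Subsingleton.elim x o)⟩
    exact hr ▸ e.isClosedEmbedding.isClosed_range
  have hx₀ : i.left b₀ = η[A].left o :=
    congrArg (fun f : 𝟙_ (Over (Spec (CommRingCat.of k))) ⟶ A => f.left o) (IsMonHom.one_hom (f := i))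
  obtain ⟨z, hz, hiso, hdeg⟩ := exists_transversal A.hom i.left b₀ hb₀
  rw [hx₀] at hz hiso
  -- the subvariety
  let C : TopologicalSpace.Closeds A.left := ⟨closure {z}, isClosed_closure⟩
  let Z : Over (Spec (CommRingCat.of k)) :=
    Over.mk ((Scheme.IdealSheafData.vanishingIdeal C).subschemeι ≫ A.hom)
  let j : Z ⟶ A := Over.homMk (Scheme.IdealSheafData.vanishingIdeal C).subschemeι rfl
  haveI : IsClosedImmersion j.left :=
    inferInstanceAs (IsClosedImmersion (Scheme.IdealSheafData.vanishingIdeal C).subschemeι)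
  haveI : IsReduced Z.left := H23.RedSub.isReduced_vanishingIdeal C
  haveI : IsProper Z.hom := inferInstanceAs (IsProper (j.left ≫ A.hom))
  have hr : Set.range j.left = closure {z} := H23.RedSub.range_vanishingIdeal C
  obtain ⟨z', hz'⟩ : z ∈ Set.range j.left := hr.symm ▸ subset_closure rfl
  have hgenZ : ∀ x : Z.left, z' ⤳ x := fun x => j.left.isEmbedding.isInducing.specializes_iff.1 (by
    rw [hz', specializes_iff_mem_closure, ← hr]
    exact ⟨x, rfl⟩)
  haveI : IrreducibleSpace Z.left := (irreducibleSpace_def _).2 (by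
    have : (Set.univ : Set Z.left) = closure {z'} :=
      (Set.eq_univ_of_forall fun x => specializes_iff_mem_closure.1 (hgenZ x)).symm
    rw [Set.top_eq_univ, this]
    exact isIrreducible_singleton.closure)
  haveI : IsIntegral Z.left := (isIntegral_iff_irreducibleSpace_and_isReduced _).2 ⟨inferInstance, inferInstance⟩
  have hzgen : genericPoint Z.left = z' :=
    ((genericPoint_specializes z').antisymm (hgenZ _)).eq
  let eA : Spec (CommRingCat.of k) ⟶ A.left := η[A].left
  obtain ⟨z₀', hz₀'⟩ := H23.RedSub.exists_lift_closed eA j.left (by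
    rintro _ ⟨s, rfl⟩
    rw [hr, Subsingleton.elim s o, ← specializes_iff_mem_closure]
    exact hz)
  let z₀ : 𝟙_ (Over (Spec (CommRingCat.of k))) ⟶ Z := Over.homMk z₀' (by
    show z₀' ≫ j.left ≫ A.hom = 𝟙 _
    rw [reassoc_of% hz₀']
    exact Over.w η[A])
  have hz₀ : z₀ ≫ j = η[A] := Over.OverMorphism.ext hz₀'
  -- the product
  let W := B ⊗ Z
  haveI : IsLocallyNoetherian Z.left := LocallyOfFiniteType.isLocallyNoetherian Z.hom
  haveI : IsIntegral W.left := inferInstanceAs (IsIntegral (pullback B.hom Z.hom))
  haveI : IsProper W.hom := inferInstanceAs (IsProper (pullback.fst B.hom Z.hom ≫ B.hom))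
  let m : W ⟶ A := (fst B Z ≫ i) * (snd B Z ≫ j)
  haveI : IsProper (m.left ≫ A.hom) := by rw [Over.w m]; infer_instance
  haveI : LocallyOfFiniteType m.left := locallyOfFiniteType_of_comp m.left A.hom
  haveI : LocallyOfFiniteType (snd B Z).left := inferInstanceAs (LocallyOfFiniteType (pullback.snd B.hom Z.hom))
  have hdimW : VarDim.deg A.hom (genericPoint A.left) ≤ VarDim.deg W.hom (genericPoint W.left) := by
    obtain ⟨w, -, hw, hrd⟩ := FibDim.exists_rd_baseChange_eq
      (IsPullback.of_hasPullback B.hom Z.hom) (genericPoint B.left) (genericPoint Z.left) (Subsingleton.elim _ _)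
    have h1 : VarDim.deg W.hom w = _ := VarDim.deg_eq_add (snd B Z).left Z.hom (Over.w (snd B Z)) w
    have h2 := VarDim.deg_le_of_specializes W.hom (genericPoint_specializes (α := W.left) w)
    rw [show (snd B Z).left w = genericPoint Z.left from hw,
      fdeg_eq_rd, show FibDim.rd (snd B Z).left w = FibDim.rd B.hom (genericPoint B.left) from hrd,
      ← deg_eq_rd] at h1
    have h3 : VarDim.deg Z.hom (genericPoint Z.left) = VarDim.deg A.hom z := by
      rw [VarDim.deg_eq_add j.left A.hom (Over.w j), VarDim.fdeg, VarDim.rdeg_preimmersion j.left, hzgen, hz']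
      simp
    have h4 : VarDim.deg (i.left ≫ A.hom) (genericPoint B.left) = VarDim.deg B.hom (genericPoint B.left) :=
      VarDim.deg_congr (Over.w i) _
    omega
  let w₀ : W.left := (lift η[B] z₀).left o
  have hm₀ : m.left w₀ = η[A].left o := by
    have : lift η[B] z₀ ≫ m = η[A] := by
      rw [MonObj.comp_mul, lift_fst_assoc, lift_snd_assoc, hz₀, IsMonHom.one_hom (f := i), MonObj.one_eq_one,
        _root_.mul_one]
    exact congrArg (fun f : 𝟙_ (Over (Spec (CommRingCat.of k))) ⟶ A => f.left o) this
  have honly : ∀ w : W.left, w ⤳ w₀ → m.left w = η[A].left o → w = w₀ := by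
    intro w hw hmw
    letI : Algebra k (W.left.residueField w) := (Spec.preimage (W.left.fromSpecResidueField w ≫ W.hom)).hom.toAlgebra
    let S : Over (Spec (CommRingCat.of k)) := Over.mk (W.left.fromSpecResidueField w ≫ W.hom)
    let P : S ⟶ W := Over.homMk (W.left.fromSpecResidueField w) rfl
    haveI : IsReduced S.left := inferInstanceAs (IsReduced (Spec (W.left.residueField w)))
    have hP : ∀ s, P.left s = w := fun s => W.left.fromSpecResidueField_apply w s
    have h1 : P ≫ m = 1 := eq_one_of_pt _ fun s => by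
      show m.left (P.left s) = _
      rw [hP, hmw]
    have h2 : P ≫ snd B Z ≫ j = (P ≫ fst B Z ≫ i)⁻¹ := by
      rw [eq_inv_iff_mul_eq_one, mul_comm, ← h1, MonObj.comp_mul]
    have h3 : P ≫ snd B Z ≫ j = 1 := eq_one_of_pt _ fun s => by
      show j.left ((snd B Z).left (P.left s)) = _
      rw [hP]
      refine hiso _ ?_ ?_ ?_
      · rw [← hz']
        exact (hgenZ _).map j.left.continuous
      · have := (hw.map (snd B Z).left.continuous).map j.left.continuous
        refine this.trans (specializes_of_eq ?_)
        have h5 : lift η[B] z₀ ≫ snd B Z ≫ j = η[A] := by rw [lift_snd_assoc, hz₀]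
        exact congrArg (fun f : 𝟙_ (Over (Spec (CommRingCat.of k))) ⟶ A => f.left o) h5
      · refine ⟨(((P ≫ fst B Z)⁻¹ : S ⟶ B)).left s, ?_⟩
        have h4 : (P ≫ fst B Z)⁻¹ ≫ i = P ≫ snd B Z ≫ j := by
          rw [h2, GrpObj.inv_comp, Category.assoc]
        have := congrArg (fun f : S ⟶ A => f.left s) h4
        exact this.trans (congrArg (fun x => j.left ((snd B Z).left x)) (hP s))
    have h6 : P ≫ fst B Z ≫ i = 1 := by rw [h3] at h2; exact inv_eq_one.1 h2.symm
    haveI : Mono i := Over.mono_of_mono_left i
    haveI : Mono j := Over.mono_of_mono_left j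
    have h7 : P = toUnit S ≫ lift η[B] z₀ := by
      rw [comp_lift]
      refine CartesianMonoidalCategory.hom_ext _ _ ?_ ?_
      · rw [lift_fst, ← cancel_mono i, Category.assoc, h6, Category.assoc, IsMonHom.one_hom (f := i),
          MonObj.one_eq_one, MonObj.comp_one]
      · rw [lift_snd, ← cancel_mono j, Category.assoc, h3, Category.assoc, hz₀, MonObj.one_eq_one, MonObj.comp_one]
    have h8 := congrArg (fun f : S ⟶ W => f.left (IsLocalRing.closedPoint (W.left.residueField w))) h7
    simp only [hP] at h8
    rw [h8]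
    exact congrArg (lift η[B] z₀).left (Subsingleton.elim (α := ↥(Spec (CommRingCat.of k))) _ _)
  have hrd : FibDim.rd m.left (genericPoint W.left) = 0 := by
    obtain ⟨w, -, hw, hfw, hle⟩ := FibDim.exists_rd_ge m.left (genericPoint_specializes (α := W.left) w₀)
    rw [honly w hw (hfw.trans hm₀)] at hle
    have hc : IsClosed ({w₀} : Set W.left) := by
      let e : Spec (CommRingCat.of k) ⟶ W.left := (lift η[B] z₀).left
      have he : e ≫ W.hom = 𝟙 _ := Over.w (lift η[B] z₀)
      haveI : IsClosedImmersion (e ≫ W.hom) := by rw [he]; infer_instance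
      haveI : IsClosedImmersion e := IsClosedImmersion.of_comp e W.hom
      have hr : Set.range e = {w₀} := Set.eq_singleton_iff_unique_mem.2
        ⟨⟨_, rfl⟩, fun y ⟨x, hx⟩ => hx ▸ congrArg e (Subsingleton.elim x o)⟩
      exact hr ▸ e.isClosedEmbedding.isClosed_range
    have h0 := (VarDim.closedPoint_iff_deg_eq_zero W.hom _).1 hc
    rw [VarDim.deg_eq_add m.left A.hom (Over.w m), fdeg_eq_rd] at h0
    omega
  have hgen : m.left (genericPoint W.left) = genericPoint A.left := by
    refine (VarDim.eq_of_specializes_of_deg_le A.hom (genericPoint_specializes _) ?_).symm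
    have := VarDim.deg_eq_add m.left A.hom (Over.w m) (genericPoint W.left)
    rw [fdeg_eq_rd, hrd, add_zero] at this
    omega
  refine ⟨Z, inferInstance, j, genericPoint W.left, hgen, fun w hw => ?_,
    CycLib.finite_residueFieldMap_of_rd_eq_zero m.left _ hrd⟩
  refine (VarDim.eq_of_specializes_of_deg_le W.hom (genericPoint_specializes w) ?_).symm
  rw [VarDim.deg_eq_add m.left A.hom (Over.w m), VarDim.deg_eq_add m.left A.hom (Over.w m), hgen, fdeg_eq_rd m.left
    (genericPoint W.left), hrd, hw]
  omega

end Groth.Agent.AVSplitLib
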