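import Groth.Agent.AVSplitLib.QuasiSection
import Groth.Agent.AVSplitLib.Correspondence

/-! A retraction up to isogeny onto an abelian subvariety. -/

noncomputable section

universe u

set_option linter.style.haveILetI false
set_option linter.unusedSectionVars false
set_option backward.isDefEq.respectTransparency false
set_option backward.isDefEq.respectTransparency.types false
set_option maxHeartbeats 1000000
set_option synthInstance.maxHeartbeats 200000

open CategoryTheory CategoryTheory.Limits MonoidalCategory CartesianMonoidalCategory AlgebraicGeometry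
open scoped MonObj

namespace Groth.Agent.AVSplitLib

open Groth.Agent Groth.Agent.AVFrobLib

variable {k : Type u} [Field k]

theorem surjective_stalkSpecializes_of_eq {X : Scheme.{u}} {x y : X} (h : x = y) :
    Function.Surjective (X.presheaf.stalkSpecializes (specializes_of_eq h)).hom := by
  subst h
  rw [TopCat.Presheaf.stalkSpecializes_refl]
  exact fun a => ⟨a, rfl⟩

/-- A surjective map of irreducible schemes preserves the generic point. -/
theorem map_genericPoint {X Y : Scheme.{u}} [IrreducibleSpace X] [IrreducibleSpace Y] (f : X ⟶ Y) [Surjective f] :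
    f (genericPoint X) = genericPoint Y := by
  obtain ⟨y, hy⟩ := f.surjective (genericPoint Y)
  exact ((genericPoint_specializes _).antisymm
    (hy ▸ (genericPoint_specializes y).map f.continuous)).eq.symm

variable {A B : Over (Spec (CommRingCat.of k))}
  [GrpObj A] [IsProper A.hom] [GeometricallyIntegral A.hom]
  [GrpObj B] [IsProper B.hom] [GeometricallyIntegral B.hom]

/-- An abelian subvariety is a direct factor up to isogeny: a retraction up to a positive multiple. -/
theorem exists_retraction (i : B ⟶ A) [IsMonHom i] [IsClosedImmersion i.left] :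
    ∃ (h : A ⟶ B) (_ : IsMonHom h) (N : ℕ), 0 < N ∧ i ≫ h = 𝟙 B ^ N := by
  classical
  haveI : IsCommMonObj A := isCommMonObj_of_isProper_of_geometricallyIntegral A
  haveI : IsCommMonObj B := isCommMonObj_of_isProper_of_geometricallyIntegral B
  haveI : IsIntegral A.left := GeometricallyIntegral.isIntegral_of_subsingleton A.hom
  haveI : Smooth A.hom := Groth.Agent.S7795.result A
  obtain ⟨Z, _, j, ξ, hξ, huniq, hfin⟩ := exists_correspondence i
  let m : B ⊗ Z ⟶ A := (fst B Z ≫ i) * (snd B Z ≫ j)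
  let F := A.left.functionField
  let γ₀ := A.left.fromSpecStalk (genericPoint A.left)
  let E := (B ⊗ Z).left.residueField ξ
  let i₀ : F ⟶ E := A.left.presheaf.stalkSpecializes (specializes_of_eq hξ) ≫ m.left.stalkMap ξ ≫
    (B ⊗ Z).left.residue ξ
  have hi₀ : Spec.map i₀ ≫ γ₀ = (B ⊗ Z).left.fromSpecResidueField ξ ≫ m.left := by
    simp only [i₀, Spec.map_comp, Category.assoc, Scheme.fromSpecResidueField, γ₀]
    rw [Scheme.SpecMap_stalkSpecializes_fromSpecStalk, Scheme.SpecMap_stalkMap_fromSpecStalk]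
  have hif : i₀.hom.Finite := by
    have h1 : (A.left.presheaf.stalkSpecializes (specializes_of_eq hξ) ≫ A.left.residue (m.left ξ)).hom.Finite := by
      refine RingHom.Finite.of_surjective _ ?_
      rw [CommRingCat.hom_comp]
      exact (A.left.residue_surjective (m.left ξ)).comp (surjective_stalkSpecializes_of_eq hξ)
    simp only [i₀]
    rw [← Scheme.residue_residueFieldMap, ← Category.assoc, CommRingCat.hom_comp]
    exact RingHom.Finite.comp hfin h1
  letI : Field F := inferInstanceAs (Field A.left.functionField)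
  letI : Algebra k F := ptAlg (γ₀ ≫ A.hom)
  letI : Algebra F E := i₀.hom.toAlgebra
  letI : Algebra k E := (i₀.hom.comp (algebraMap k F)).toAlgebra
  haveI : IsScalarTower k F E := IsScalarTower.of_algebraMap_eq fun r => rfl
  haveI : FiniteDimensional F E := hif
  have hk : Spec.map (CommRingCat.ofHom (algebraMap k F)) = γ₀ ≫ A.hom := ptAlg_map _
  let γ : Ys (k := k) F ⟶ A := Over.homMk γ₀ hk.symm
  let wW : Ys (k := k) E ⟶ B ⊗ Z := Over.homMk ((B ⊗ Z).left.fromSpecResidueField ξ) (by
    rw [← Over.w m, ← Category.assoc, ← hi₀, Category.assoc, ← hk, ← Spec.map_comp]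
    rfl)
  obtain ⟨n, T, hn, hT⟩ := exists_trace (F := F) (wW ≫ fst B Z)
  obtain ⟨h₀, hh₀⟩ := exists_extend (X := A) (G := B) T.left ((Over.w T).trans hk)
  have hγ : γ ≫ h₀ = T := Over.OverMorphism.ext hh₀
  have key : ∀ (Ω : Type u) [Field Ω] [IsAlgClosed Ω] [Algebra k Ω] (a : Ys (k := k) Ω ⟶ A),
      a.left (IsLocalRing.closedPoint Ω) = genericPoint A.left →
      ∃ s : Finset (Ys (k := k) Ω ⟶ B ⊗ Z), (∀ r, r ∈ s ↔ r ≫ m = a) ∧ 0 < s.card ∧
        a ≫ h₀ = (∏ r ∈ s, r ≫ fst B Z) ^ n := by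
    intro Ω _ _ _ a ha
    let f : F ⟶ CommRingCat.of Ω :=
      A.left.presheaf.stalkSpecializes (specializes_of_eq ha) ≫ Scheme.stalkClosedPointTo a.left
    have hf : Spec.map f ≫ γ₀ = a.left := by
      simp only [f, Spec.map_comp, Category.assoc, γ₀]
      rw [Scheme.SpecMap_stalkSpecializes_fromSpecStalk]
      exact Scheme.Spec_stalkClosedPointTo_fromSpecStalk (R := CommRingCat.of Ω) a.left
    letI : Algebra F Ω := f.hom.toAlgebra
    haveI : IsScalarTower k F Ω := IsScalarTower.of_algebraMap_eq' (by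
      have h2 : Spec.map (CommRingCat.ofHom (algebraMap k F) ≫ f) =
          Spec.map (CommRingCat.ofHom (algebraMap k Ω)) := by
        rw [Spec.map_comp, hk, reassoc_of% hf]
        exact Over.w a
      exact congrArg CommRingCat.Hom.hom (Spec.map_injective h2).symm)
    have hγa : ysMap (IsScalarTower.toAlgHom k F Ω) ≫ γ = a := Over.OverMorphism.ext hf
    let e : (E →ₐ[F] Ω) ↪ (Ys (k := k) Ω ⟶ B ⊗ Z) := ⟨fun σ => ysMap (σ.restrictScalars k) ≫ wW, fun σ τ h => by
      have h2 : Spec.map (CommRingCat.ofHom (σ.restrictScalars k).toRingHom) ≫ wW.left =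
          Spec.map (CommRingCat.ofHom (τ.restrictScalars k).toRingHom) ≫ wW.left := congrArg CommaMorphism.left h
      have h3 := congrArg CommRingCat.Hom.hom
        (Spec.map_injective ((cancel_mono ((B ⊗ Z).left.fromSpecResidueField ξ)).1 h2))
      exact AlgHom.ext fun c => congr($h3 c)⟩
    refine ⟨Finset.univ.map e, fun r => ⟨?_, fun hr => ?_⟩, ?_, ?_⟩
    · rw [Finset.mem_map]
      rintro ⟨σ, -, rfl⟩
      rw [← hγa]
      apply Over.OverMorphism.ext
      show (Spec.map (CommRingCat.ofHom (σ.restrictScalars k).toRingHom) ≫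
        (B ⊗ Z).left.fromSpecResidueField ξ) ≫ m.left = Spec.map f ≫ γ₀
      rw [Category.assoc, ← hi₀, ← Category.assoc, ← Spec.map_comp]
      congr 2
      exact CommRingCat.hom_ext (RingHom.ext fun c => σ.commutes c)
    · obtain ⟨⟨x, g⟩, hxg⟩ := (Scheme.SpecToEquivOfField Ω (B ⊗ Z).left).symm.surjective r.left
      have hxg' : Spec.map g ≫ (B ⊗ Z).left.fromSpecResidueField x = r.left := hxg
      obtain rfl : x = ξ := huniq x (by
        rw [← ha, ← hr, ← Scheme.fromSpecResidueField_apply x (Spec.map g (IsLocalRing.closedPoint Ω)),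
          show (r ≫ m).left = r.left ≫ m.left from rfl, ← hxg']
        rfl)
      have h2 : Spec.map (i₀ ≫ g) ≫ γ₀ = Spec.map f ≫ γ₀ := by
        rw [Spec.map_comp, Category.assoc, hi₀, ← Category.assoc, hxg', hf]
        exact congrArg CommaMorphism.left hr
      have h3 := congrArg CommRingCat.Hom.hom (Spec.map_injective ((cancel_mono γ₀).1 h2))
      refine Finset.mem_map.2 ⟨{ g.hom with commutes' := fun c => congr($h3 c) }, Finset.mem_univ _, ?_⟩
      exact Over.OverMorphism.ext hxg'
    · rw [Finset.card_map, Finset.card_univ]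
      exact Fintype.card_pos_iff.2 ⟨IsAlgClosed.lift⟩
    · rw [Finset.prod_map, ← hγa, Category.assoc, hγ, hT Ω]
      simp only [e, Function.Embedding.coeFn_mk, Category.assoc]
  -- the homomorphism
  haveI : IsIntegral (A ⊗ B).left :=
    @H23.MaxAbelian.isIntegral_of_geometricallyIntegral _ _ (A ⊗ B) (H23.MaxAbelian.geometricallyIntegral_tensor A B)
  let φ : A ⊗ B ⟶ A := fst A B * (snd A B ≫ i)
  haveI : Surjective φ.left := by
    refine ⟨fun y => ⟨(lift (𝟙 A) (1 : A ⟶ B)).left y, ?_⟩⟩
    have : lift (𝟙 A) (1 : A ⟶ B) ≫ φ = 𝟙 A := by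
      rw [MonObj.comp_mul, lift_fst, lift_snd_assoc, MonObj.one_comp, _root_.mul_one]
    exact congr($(congrArg CommaMorphism.left this) y)
  haveI : Surjective (fst A B).left := by
    refine ⟨fun y => ⟨(lift (𝟙 A) (1 : A ⟶ B)).left y, ?_⟩⟩
    exact congr($(congrArg CommaMorphism.left (lift_fst (𝟙 A) (1 : A ⟶ B))) y)
  let L := (A ⊗ B).left.functionField
  letI : Field L := inferInstanceAs (Field (A ⊗ B).left.functionField)
  let δ₀ := (A ⊗ B).left.fromSpecStalk (genericPoint (A ⊗ B).left)
  letI : Algebra k L := ptAlg (δ₀ ≫ (A ⊗ B).hom)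
  let δ : Ys (k := k) L ⟶ A ⊗ B := Over.homMk δ₀ (ptAlg_map _).symm
  let Ω := AlgebraicClosure L
  let p : Ys (k := k) Ω ⟶ A ⊗ B := ysMap (IsScalarTower.toAlgHom k L Ω) ≫ δ
  have hp : p.left (IsLocalRing.closedPoint Ω) = genericPoint (A ⊗ B).left := by
    let q : Spec (CommRingCat.of Ω) ⟶ Spec (CommRingCat.of L) :=
      Spec.map (CommRingCat.ofHom (IsScalarTower.toAlgHom k L Ω).toRingHom)
    show δ₀ (q (IsLocalRing.closedPoint Ω : PrimeSpectrum Ω)) = _
    rw [Subsingleton.elim (α := PrimeSpectrum L) (q (IsLocalRing.closedPoint Ω : PrimeSpectrum Ω)) (IsLocalRing.closedPoint L)]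
    exact Scheme.fromSpecStalk_closedPoint
  obtain ⟨s, hs, hspos, hsh⟩ := key Ω (p ≫ fst A B) (by
    show (fst A B).left (p.left _) = _
    rw [hp, map_genericPoint])
  obtain ⟨s', hs', -, hsh'⟩ := key Ω (p ≫ φ) (by
    show φ.left (p.left _) = _
    rw [hp, map_genericPoint])
  let β := p ≫ snd A B
  let move : (Ys (k := k) Ω ⟶ B) → (Ys (k := k) Ω ⟶ B ⊗ Z) → (Ys (k := k) Ω ⟶ B ⊗ Z) :=
    fun c r => lift ((r ≫ fst B Z) * c) (r ≫ snd B Z)
  have hmove : ∀ c r, move c r ≫ m = (r ≫ m) * (c ≫ i) := fun c r => by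
    simp only [move, m, MonObj.comp_mul, lift_fst_assoc, lift_snd_assoc, MonObj.mul_comp, Category.assoc]
    exact mul_right_comm _ _ _
  have hmm : ∀ c r, move c⁻¹ (move c r) = r := fun c r => by
    simp only [move, lift_fst, lift_snd, mul_inv_cancel_right]
    exact CartesianMonoidalCategory.hom_ext _ _ (by rw [lift_fst]) (by rw [lift_snd])
  have hφ : p ≫ φ = (p ≫ fst A B) * (β ≫ i) := by simp only [φ, β, MonObj.comp_mul, Category.assoc]
  have hprod : ∏ r ∈ s', r ≫ fst B Z = (∏ r ∈ s, r ≫ fst B Z) * β ^ s.card := by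
    rw [← Finset.prod_const, ← Finset.prod_mul_distrib]
    refine (Finset.prod_nbij' (move β) (move β⁻¹) (fun r hr => ?_) (fun r hr => ?_) (fun r _ => hmm β r)
      (fun r _ => by simpa using hmm β⁻¹ r) (fun r _ => by simp [move])).symm
    · rw [hs', hmove, (hs r).1 hr, hφ]
    · rw [hs, hmove, (hs' r).1 hr, hφ, GrpObj.inv_comp, mul_inv_cancel_right]
  let h := h₀ * (toUnit A ≫ η[A] ≫ h₀)⁻¹
  haveI : IsMonHom h := GrpSchLib.RigidHom.isMonHom_of_one h (by
    show η[A] ≫ (_ * _) = _
    rw [MonObj.comp_mul, GrpObj.comp_inv, ← Category.assoc η[A] (toUnit A), toUnit_unique (η[A] ≫ toUnit A) (𝟙 _),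
      Category.id_comp, mul_inv_cancel])
  let N := s.card * n
  refine ⟨h, inferInstance, N, Nat.mul_pos hspos hn, ?_⟩
  let d := toUnit (Ys (k := k) Ω) ≫ η[A] ≫ h₀
  have hh : ∀ x : Ys (k := k) Ω ⟶ A, x ≫ h₀ = (x ≫ h) * d := fun x => by
    simp only [h, d, MonObj.comp_mul, GrpObj.comp_inv]
    rw [← Category.assoc x (toUnit A), toUnit_unique (x ≫ toUnit A) (toUnit _), inv_mul_cancel_right]
  have hβ : β ≫ i ≫ h = β ^ N := by
    rw [hprod, mul_pow, ← hsh, hh, hh, hφ, MonObj.mul_comp, mul_right_comm, ← pow_mul, mul_right_inj] at hsh'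
    rw [← Category.assoc]
    exact hsh'
  have h5 : δ ≫ (snd A B ≫ i ≫ h) = δ ≫ (snd A B ≫ 𝟙 B ^ N) := by
    haveI := epi_ysMap (IsScalarTower.toAlgHom k L Ω)
    rw [← cancel_epi (ysMap (IsScalarTower.toAlgHom k L Ω))]
    show _ = _
    rw [← Category.assoc, ← Category.assoc, MonObj.comp_pow, Category.comp_id]
    exact (Category.assoc _ _ _).symm.trans hβ |>.trans (MonObj.comp_pow _ _ _).symm
  have h6 := ext_gen (X := A ⊗ B) (congrArg CommaMorphism.left h5)
  have h7 := congrArg (fun f => lift (1 : B ⟶ A) (𝟙 B) ≫ f) h6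
  simpa using h7

end Groth.Agent.AVSplitLib
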