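import Groth.Agent.AVFrobLib.PthPower

/-! Descent of field valued points of a commutative group scheme along finite extensions. -/

noncomputable section

universe u

set_option linter.style.haveILetI false
set_option linter.unusedSectionVars false
set_option backward.isDefEq.respectTransparency false
set_option backward.isDefEq.respectTransparency.types false
set_option maxHeartbeats 1000000
set_option synthInstance.maxHeartbeats 200000

open CategoryTheory MonoidalCategory CartesianMonoidalCategory AlgebraicGeometry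
open scoped TensorProduct MonObj

namespace Groth.Agent.AVSplitLib

open Groth.Agent.AVFrobLib

variable {k : Type u} [Field k] {G : Over (Spec (CommRingCat.of k))}

/-- A point with values in a ring with one prime ideal lands in an affine open. -/
theorem exists_chart {C : Type u} [CommRing C] [Algebra k C] [Subsingleton (PrimeSpectrum C)] [Nontrivial C]
    (x : Ys (k := k) C ⟶ G) :
    ∃ (A : CommRingCat.{u}) (j : Spec A ⟶ G.left) (_ : IsOpenImmersion j) (χ : A ⟶ CommRingCat.of C),
      Spec.map χ ≫ j = x.left := by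
  haveI : Subsingleton ↥(Spec (CommRingCat.of C)) := inferInstanceAs (Subsingleton (PrimeSpectrum C))
  obtain ⟨c₀⟩ := (inferInstance : Nonempty (PrimeSpectrum C))
  obtain ⟨U, hU, hxU, -⟩ := exists_isAffineOpen_mem_and_subset
    (show x.left c₀ ∈ (⊤ : G.left.Opens) from trivial)
  have hr : Set.range x.left ⊆ Set.range hU.fromSpec := by
    rintro _ ⟨c, rfl⟩
    rw [hU.range_fromSpec, Subsingleton.elim (α := ↥(Spec (CommRingCat.of C))) c c₀]
    exact hxU
  obtain ⟨χ, hχ⟩ := Spec.map_surjective (IsOpenImmersion.lift hU.fromSpec x.left hr)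
  exact ⟨_, hU.fromSpec, inferInstance, χ, by rw [hχ, IsOpenImmersion.lift_fac]⟩

variable {C D : Type u} [CommRing C] [Algebra k C] [CommRing D] [Algebra k D]

/-- A point fixed by an endomorphism of the ring has fixed coordinates. -/
theorem chart_fixed {x : Ys (k := k) C ⟶ G} {σ : C →ₐ[k] C} (h : ysMap σ ≫ x = x) {A : CommRingCat.{u}}
    {j : Spec A ⟶ G.left} [IsOpenImmersion j] {χ : A ⟶ CommRingCat.of C} (hχ : Spec.map χ ≫ j = x.left) (a : A) :
    σ (χ.hom a) = χ.hom a := by
  have h1 : Spec.map (χ ≫ CommRingCat.ofHom σ.toRingHom) ≫ j = Spec.map χ ≫ j := by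
    rw [Spec.map_comp, Category.assoc, hχ]
    exact congrArg CommaMorphism.left h
  exact congr($(congrArg CommRingCat.Hom.hom (Spec.map_injective ((cancel_mono j).1 h1))) a)

/-- A point whose coordinates lie in a subring is defined over it. -/
theorem exists_descend (i : C →ₐ[k] D) (hi : Function.Injective i) (x : Ys (k := k) D ⟶ G) {A : CommRingCat.{u}}
    (j : Spec A ⟶ G.left) {χ : A ⟶ CommRingCat.of D} (hχ : Spec.map χ ≫ j = x.left)
    (h : ∀ a : A, χ.hom a ∈ Set.range i) :
    ∃ z : Ys (k := k) C ⟶ G, ysMap i ≫ z = x := by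
  choose g hg using h
  let ψ : A →+* C :=
    { toFun := g
      map_one' := hi (by rw [hg, map_one, map_one])
      map_mul' := fun a b => hi (by rw [hg, map_mul, map_mul, hg, hg])
      map_zero' := hi (by rw [hg, map_zero, map_zero])
      map_add' := fun a b => hi (by rw [hg, map_add, map_add, hg, hg]) }
  have hψ : CommRingCat.ofHom ψ ≫ CommRingCat.ofHom i.toRingHom = χ := CommRingCat.hom_ext (RingHom.ext hg)
  have hl : Spec.map (CommRingCat.ofHom i.toRingHom) ≫ Spec.map (CommRingCat.ofHom ψ) ≫ j = x.left := by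
    rw [← Category.assoc, ← Spec.map_comp, hψ, hχ]
  obtain ⟨φ, hφ⟩ := Spec.map_surjective ((Spec.map (CommRingCat.ofHom ψ) ≫ j) ≫ G.hom)
  have h2 : Spec.map (φ ≫ CommRingCat.ofHom i.toRingHom) = Spec.map (CommRingCat.ofHom (algebraMap k D)) := by
    rw [Spec.map_comp, hφ, ← Category.assoc, hl]
    exact Over.w x
  have h3 : φ = CommRingCat.ofHom (algebraMap k C) := CommRingCat.hom_ext (RingHom.ext fun r => hi (by
    rw [CommRingCat.hom_ofHom, i.commutes]
    exact congr($(congrArg CommRingCat.Hom.hom (Spec.map_injective h2)) r)))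
  exact ⟨Over.homMk (Spec.map (CommRingCat.ofHom ψ) ≫ j) (by rw [← hφ, h3]; rfl), Over.OverMorphism.ext hl⟩

variable [GrpObj G] [IsCommMonObj G]

section Step

variable {F F' : Type u} [Field F] [Field F'] [Algebra k F] [Algebra k F'] [Algebra F F'] [IsScalarTower k F F']
  [Module.Finite F F'] {p : ℕ} [Fact p.Prime] [CharP F p]

/-- The `p`-th power of a point over an extension of height one is defined over the base. -/
theorem exists_pow_descend_step (hp : ∀ a : F', ∃ c : F, algebraMap F F' c = a ^ p) (y : Ys (k := k) F' ⟶ G) :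
    ∃ z : Ys (k := k) F ⟶ G, ysMap (IsScalarTower.toAlgHom k F F') ≫ z = y ^ p := by
  classical
  let T := ⨂[F] _ : Fin p, F'
  let m : T →ₐ[F] F' := fam fun _ => AlgHom.id F F'
  haveI : Nontrivial T := m.toRingHom.domain_nontrivial
  haveI : CharP T p := charP_of_injective_algebraMap (algebraMap F T).injective p
  have hpow : ∀ t : T, ∃ c : F, algebraMap F T c = t ^ p := fun t => by
    induction t using PiTensorProduct.induction_on with
    | smul_tprod r x =>
      choose c hc using fun i => hp (x i)
      refine ⟨r ^ p * ∏ i, c i, ?_⟩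
      rw [_root_.smul_pow, tprod_eq_prod_single, ← Finset.prod_pow, map_mul, map_prod, ← Algebra.smul_def]
      congr 1
      exact Finset.prod_congr rfl fun i _ => by rw [← map_pow, ← hc, AlgHom.commutes]
    | add a b ha hb =>
      obtain ⟨c, hc⟩ := ha
      obtain ⟨d, hd⟩ := hb
      exact ⟨c + d, by rw [map_add, hc, hd, add_pow_char]⟩
  have hmem : ∀ (Q : PrimeSpectrum T) (t : T), t ∈ Q.asIdeal ↔ t ^ p = 0 := fun Q t => by
    refine ⟨fun ht => ?_, fun ht => Q.2.mem_of_pow_mem p (ht ▸ Q.asIdeal.zero_mem)⟩
    obtain ⟨c, hc⟩ := hpow t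
    by_contra hne
    have hc0 : c ≠ 0 := fun h => hne (by rw [← hc, h, map_zero])
    exact Q.2.ne_top (Q.asIdeal.eq_top_of_isUnit_mem
      (Q.asIdeal.pow_mem_of_mem ht p (Fact.out : p.Prime).pos)
      (hc ▸ (IsUnit.mk0 c hc0).map (algebraMap F T)))
  haveI : Subsingleton (PrimeSpectrum T) :=
    ⟨fun Q R => PrimeSpectrum.ext (Ideal.ext fun t => (hmem Q t).trans (hmem R t).symm)⟩
  let s : Fin p → (F' →ₐ[F] T) := fun i => PiTensorProduct.singleAlgHom (R := F) (A := fun _ : Fin p => F') i
  let P : Ys (k := k) T ⟶ G := ∏ i, ysMap ((s i).restrictScalars k) ≫ y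
  let rot : T →ₐ[F] T := fam fun i => s (finRotate p i)
  have hrot : ysMap (rot.restrictScalars k) ≫ P = P := by
    simp only [P, comp_prod]
    conv_rhs => rw [← Equiv.prod_comp (finRotate p)]
    refine Finset.prod_congr rfl fun i _ => ?_
    rw [← Category.assoc, ysMap_comp,
      show (rot.restrictScalars k).comp ((s i).restrictScalars k) = (s (finRotate p i)).restrictScalars k from
        AlgHom.ext fun b => congr($(fam_single (fun i => s (finRotate p i)) i) b)]
  have hm : ysMap (m.restrictScalars k) ≫ P = y ^ p := by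
    simp only [P, comp_prod]
    rw [Finset.prod_congr rfl (fun i _ => show _ = y by
      rw [← Category.assoc, ysMap_comp,
        show (m.restrictScalars k).comp ((s i).restrictScalars k) = AlgHom.id k F' from
          AlgHom.ext fun b => congr($(fam_single (fun _ : Fin p => AlgHom.id F F') i) b),
        ysMap_id, Category.id_comp]),
      Finset.prod_const, Finset.card_univ, Fintype.card_fin]
  obtain ⟨A, j, _, χ, hχ⟩ := exists_chart P
  refine exists_descend (χ := χ ≫ CommRingCat.ofHom m.toRingHom) _ (algebraMap F F').injective _ j ?_ fun a => ?_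
  · rw [Spec.map_comp, Category.assoc, hχ, ← hm]
    rfl
  · have h1 := fam_id_mem_span (χ.hom a) (chart_fixed hrot hχ a)
    show m (χ.hom a) ∈ _
    obtain ⟨c, hc⟩ : m (χ.hom a) ∈ LinearMap.range (Algebra.linearMap F F') := by
      refine Submodule.span_le.2 ?_ h1
      rintro _ ⟨b, rfl⟩
      exact hp b
    exact ⟨c, hc⟩

end Step

end Groth.Agent.AVSplitLib
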