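import Groth.Agent.AVSplitLib.Trace
import Groth.Agent.H23.RatExt
import Groth.Agent.GrpSchLib.RigidHom
import Groth.Agent.S7795
import Mathlib.AlgebraicGeometry.Morphisms.Finite

/-! Points with values in the function field, and quasi-sections of surjective homomorphisms. -/

noncomputable section

universe u

set_option linter.style.haveILetI false
set_option linter.unusedSectionVars false
set_option backward.isDefEq.respectTransparency false
set_option backward.isDefEq.respectTransparency.types false
set_option maxHeartbeats 1000000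
set_option synthInstance.maxHeartbeats 200000

open CategoryTheory CategoryTheory.Limits MonoidalCategory CartesianMonoidalCategory AlgebraicGeometry
open scoped MonObj

namespace Groth.Agent.AVSplitLib

open Groth.Agent Groth.Agent.AVFrobLib

variable {k : Type u} [Field k]

/-- The algebra structure of a field valued point of a scheme over the field. -/
@[reducible] def ptAlg {F : Type u} [Field F] (f : Spec (CommRingCat.of F) ⟶ Spec (CommRingCat.of k)) : Algebra k F :=
  (Spec.preimage f).hom.toAlgebra

theorem ptAlg_map {F : Type u} [Field F] (f : Spec (CommRingCat.of F) ⟶ Spec (CommRingCat.of k)) :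
    letI := ptAlg f; Spec.map (CommRingCat.ofHom (algebraMap k F)) = f :=
  Spec.map_preimage f

/-- A map of points is determined after extending the field. -/
theorem epi_ysMap {F L : Type u} [Field F] [Field L] [Algebra k F] [Algebra k L] (i : F →ₐ[k] L) :
    Epi (ysMap i) := by
  haveI : Surjective (Spec.map (CommRingCat.ofHom i.toRingHom)) :=
    ⟨fun y => ⟨IsLocalRing.closedPoint L, Subsingleton.elim (α := PrimeSpectrum F) _ y⟩⟩
  haveI : Flat (Spec.map (CommRingCat.ofHom i.toRingHom)) := by
    rw [HasRingHomProperty.Spec_iff (P := @Flat)]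
    algebraize [i.toRingHom]
    exact inferInstanceAs (Module.Flat F L)
  haveI := Flat.epi_of_flat_of_surjective (Spec.map (CommRingCat.ofHom i.toRingHom))
  exact ⟨fun g h hgh => Over.OverMorphism.ext ((cancel_epi (Spec.map (CommRingCat.ofHom i.toRingHom))).1
    (congrArg CommaMorphism.left hgh))⟩

variable {X G : Over (Spec (CommRingCat.of k))}

/-- A point with values in the function field extends to a morphism. -/
theorem exists_extend [Smooth X.hom] [IsSeparated X.hom] [GeometricallyIntegral X.hom] [IsIntegral X.left]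
    [GrpObj G] [IsProper G.hom] (φ₀ : Spec X.left.functionField ⟶ G.left)
    (h₀ : φ₀ ≫ G.hom = X.left.fromSpecStalk (genericPoint X.left) ≫ X.hom) :
    ∃ g : X ⟶ G, X.left.fromSpecStalk (genericPoint X.left) ≫ g.left = φ₀ := by
  haveI : G.left.IsSeparated := ⟨by rw [← terminal.comp_from G.hom]; infer_instance⟩
  haveI : (Spec (CommRingCat.of k)).IsSeparated := inferInstance
  obtain ⟨W, hW, H, -, hH, hH0⟩ := H23.RatExtend.extend X.hom G.hom φ₀ h₀ {genericPoint X.left} fun p hp => by
    obtain rfl := Set.mem_singleton_iff.1 hp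
    exact ⟨φ₀, h₀, by rw [TopCat.Presheaf.stalkSpecializes_refl, Spec.map_id, Category.id_comp]⟩
  obtain ⟨g, hg⟩ := H23.RatExt.exists_extension W ⟨_, hW⟩ H hH
  refine ⟨g, ?_⟩
  rw [← hH0, ← hg, Scheme.Opens.fromSpecStalkOfMem_ι_assoc]

/-- A morphism is determined at the generic point. -/
theorem ext_gen [IsIntegral X.left] [IsSeparated G.hom] {f g : X ⟶ G}
    (h : X.left.fromSpecStalk (genericPoint X.left) ≫ f.left = X.left.fromSpecStalk (genericPoint X.left) ≫ g.left) :
    f = g :=
  haveI := H23.RatExtend.isDominant_fromSpecStalk (X := X.left)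
  Over.OverMorphism.ext (ext_of_isDominant_of_isSeparated G.hom (by rw [Over.w, Over.w]) _ h)

/-- A finite field extension over which a surjective map hits the generic point. -/
theorem exists_closed_pt {A I : Over (Spec (CommRingCat.of k))} [IsProper A.hom] [IsSeparated I.hom]
    (φ : A ⟶ I) [Surjective φ.left] (F : CommRingCat.{u}) (hF : IsField F) (x : Spec F ⟶ I.left) :
    ∃ (E : Type u) (_ : Field E) (i : F ⟶ CommRingCat.of E), i.hom.Finite ∧
      ∃ y : Spec (CommRingCat.of E) ⟶ A.left, y ≫ φ.left = Spec.map i ≫ x := by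
  letI := hF.toField
  haveI : LocallyOfFiniteType (φ.left ≫ I.hom) := by rw [Over.w φ]; infer_instance
  haveI : LocallyOfFiniteType φ.left := locallyOfFiniteType_of_comp φ.left I.hom
  haveI : QuasiCompact (φ.left ≫ I.hom) := by rw [Over.w φ]; infer_instance
  haveI : QuasiCompact φ.left := QuasiCompact.of_comp φ.left I.hom
  let P := pullback φ.left x
  haveI : Nonempty P := by
    obtain ⟨z, -⟩ := (pullback.snd φ.left x).surjective (IsLocalRing.closedPoint F)
    exact ⟨z⟩
  haveI : CompactSpace P := QuasiCompact.compactSpace_of_compactSpace (pullback.snd φ.left x)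
  obtain ⟨c, -, hc⟩ := IsClosed.exists_closed_singleton (X := P) isClosed_univ Set.univ_nonempty
  let q := P.fromSpecResidueField c ≫ pullback.snd φ.left x
  have hq : IsFinite q := by
    haveI : IsClosedImmersion (P.fromSpecResidueField c) := isClosed_singleton_iff_isClosedImmersion.1 hc
    rw [isFinite_iff_locallyOfFiniteType_of_jacobsonSpace]
    infer_instance
  obtain ⟨i, hi⟩ := Spec.map_surjective q
  refine ⟨P.residueField c, inferInstance, i, ?_, P.fromSpecResidueField c ≫ pullback.fst φ.left x, ?_⟩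
  · rw [← hi] at hq
    exact (IsFinite.SpecMap_iff i).1 hq
  · show _ = Spec.map i ≫ x
    rw [hi, Category.assoc, pullback.condition, Category.assoc]

variable {A I : Over (Spec (CommRingCat.of k))}
  [GrpObj A] [IsCommMonObj A] [IsProper A.hom] [GeometricallyIntegral A.hom]
  [GrpObj I] [IsCommMonObj I] [IsProper I.hom] [GeometricallyIntegral I.hom]

/-- A surjective homomorphism of abelian varieties has a quasi-section. -/
theorem exists_quasiSection (φ : A ⟶ I) [IsMonHom φ] [Surjective φ.left] :
    ∃ (s : I ⟶ A) (_ : IsMonHom s) (n : ℕ), 0 < n ∧ s ≫ φ = 𝟙 I ^ n := by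
  haveI : IsIntegral I.left := GeometricallyIntegral.isIntegral_of_subsingleton I.hom
  haveI : Smooth I.hom := Groth.Agent.S7795.result I
  let F := I.left.functionField
  let γ₀ := I.left.fromSpecStalk (genericPoint I.left)
  obtain ⟨E, _, i, hi, y, hy⟩ := exists_closed_pt φ F (Field.toIsField F) γ₀
  letI : Algebra k F := ptAlg (γ₀ ≫ I.hom)
  letI : Algebra F E := i.hom.toAlgebra
  letI : Algebra k E := (i.hom.comp (algebraMap k F)).toAlgebra
  haveI : IsScalarTower k F E := IsScalarTower.of_algebraMap_eq fun r => rfl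
  haveI : FiniteDimensional F E := hi
  have hk : Spec.map (CommRingCat.ofHom (algebraMap k F)) = γ₀ ≫ I.hom := ptAlg_map _
  let γ : Ys (k := k) F ⟶ I := Over.homMk γ₀ hk.symm
  let w : Ys (k := k) E ⟶ A := Over.homMk y (by
    rw [← Over.w φ, reassoc_of% hy, ← hk, ← Spec.map_comp]
    rfl)
  have hw : w ≫ φ = ysMap (IsScalarTower.toAlgHom k F E) ≫ γ := Over.OverMorphism.ext hy
  obtain ⟨n, T, hn, hT⟩ := exists_trace (F := F) w
  let Ω := AlgebraicClosure F
  let N := Fintype.card (E →ₐ[F] Ω) * n
  have hN : 0 < N := Nat.mul_pos (Fintype.card_pos_iff.2 ⟨IsAlgClosed.lift⟩) hn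
  have hTφ : T ≫ φ = γ ^ N := by
    haveI := epi_ysMap (IsScalarTower.toAlgHom k F Ω)
    rw [← cancel_epi (ysMap (IsScalarTower.toAlgHom k F Ω)), ← Category.assoc, hT Ω, MonObj.comp_pow,
      MonObj.pow_comp, pow_mul]
    congr 1
    let Φ : (Ys (k := k) Ω ⟶ A) →* (Ys (k := k) Ω ⟶ I) :=
      { toFun := fun h => h ≫ φ, map_one' := MonObj.one_comp _, map_mul' := fun a b => MonObj.mul_comp a b φ }
    show Φ (∏ σ : E →ₐ[F] Ω, ysMap (σ.restrictScalars k) ≫ w) = _
    rw [map_prod, Finset.prod_congr rfl (fun σ _ => show Φ (ysMap (σ.restrictScalars k) ≫ w) =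
      ysMap (IsScalarTower.toAlgHom k F Ω) ≫ γ by
        show (_ ≫ w) ≫ φ = _
        rw [Category.assoc, hw, ← Category.assoc, ysMap_comp]
        exact congrArg (fun τ => ysMap τ ≫ γ) (AlgHom.ext fun c => σ.commutes c)),
      Finset.prod_const, Finset.card_univ]
  obtain ⟨s₀, hs₀⟩ := exists_extend (X := I) (G := A) T.left ((Over.w T).trans hk)
  have hs : s₀ ≫ φ = 𝟙 I ^ N := ext_gen (by
    have h1 : γ ≫ s₀ = T := Over.OverMorphism.ext hs₀
    have h2 : γ ≫ (s₀ ≫ φ) = γ ≫ (𝟙 I ^ N) := by
      rw [← Category.assoc, h1, hTφ, MonObj.comp_pow, Category.comp_id]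
    exact congrArg CommaMorphism.left h2)
  let s := s₀ * (toUnit I ≫ η[I] ≫ s₀)⁻¹
  haveI : IsMonHom s := GrpSchLib.RigidHom.isMonHom_of_one s (by
    show η[I] ≫ (_ * _) = _
    rw [MonObj.comp_mul, GrpObj.comp_inv, ← Category.assoc η[I] (toUnit I), toUnit_unique (η[I] ≫ toUnit I) (𝟙 _),
      Category.id_comp, mul_inv_cancel])
  refine ⟨s, inferInstance, N, hN, ?_⟩
  rw [show s ≫ φ = (s₀ ≫ φ) * ((toUnit I ≫ η[I] ≫ s₀) ≫ φ)⁻¹ by rw [MonObj.mul_comp, GrpObj.inv_comp],
    Category.assoc, Category.assoc, hs, MonObj.comp_pow, Category.comp_id, MonObj.one_eq_one, one_pow,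
    MonObj.comp_one, inv_one, _root_.mul_one]

end Groth.Agent.AVSplitLib
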