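import Groth.Agent.AVSplitLib.Descend
import Mathlib.FieldTheory.PurelyInseparable.Basic
import Mathlib.FieldTheory.Galois.Basic
import Mathlib.FieldTheory.Normal.Closure
import Mathlib.FieldTheory.IsAlgClosed.AlgebraicClosure

/-! The trace of a field valued point of a commutative group scheme along a finite extension. -/

noncomputable section

universe u

set_option linter.style.haveILetI false
set_option linter.unusedSectionVars false
set_option backward.isDefEq.respectTransparency false
set_option backward.isDefEq.respectTransparency.types false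
set_option maxHeartbeats 1000000
set_option synthInstance.maxHeartbeats 200000

open CategoryTheory MonoidalCategory CartesianMonoidalCategory AlgebraicGeometry IntermediateField
open scoped MonObj

namespace Groth.Agent.AVSplitLib

open Groth.Agent.AVFrobLib

variable {k : Type u} [Field k] {G : Over (Spec (CommRingCat.of k))} [GrpObj G] [IsCommMonObj G]

theorem exists_pow_descend_aux : ∀ (d : ℕ) (F F' : Type u) [Field F] [Field F'] [Algebra k F] [Algebra k F']
    [Algebra F F'] [IsScalarTower k F F'] [FiniteDimensional F F'] [IsPurelyInseparable F F'],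
    Module.finrank F F' ≤ d → ∀ y : Ys (k := k) F' ⟶ G, ∃ (n : ℕ) (z : Ys (k := k) F ⟶ G),
      0 < n ∧ ysMap (IsScalarTower.toAlgHom k F F') ≫ z = y ^ n
  | 0, F, F', _, _, _, _, _, _, _, _, hd, _ => absurd hd (by have := Module.finrank_pos (R := F) (M := F'); omega)
  | d + 1, F, F', _, _, _, _, _, _, _, _, hd, y => by
    by_cases hall : ∀ a : F', a ∈ Set.range (algebraMap F F')
    · obtain ⟨A, j, _, χ, hχ⟩ := exists_chart y
      obtain ⟨z, hz⟩ := exists_descend (IsScalarTower.toAlgHom k F F') (algebraMap F F').injective y j hχ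
        fun a => hall _
      exact ⟨1, z, one_pos, by rw [pow_one, hz]⟩
    · push Not at hall
      obtain ⟨b, hb⟩ := hall
      obtain ⟨p, hp⟩ := ExpChar.exists F
      rcases hp with _ | hprime
      · exact absurd (IsPurelyInseparable.surjective_algebraMap_of_isSeparable F F' b) hb
      haveI : Fact p.Prime := ⟨hprime⟩
      haveI : ExpChar F p := ExpChar.prime hprime
      haveI : CharP F' p := charP_of_injective_algebraMap (algebraMap F F').injective p
      haveI : ExpChar F' p := ExpChar.prime hprime
      classical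
      have hex : ∃ n : ℕ, b ^ p ^ n ∈ Set.range (algebraMap F F') := IsPurelyInseparable.pow_mem F p b
      obtain ⟨m, hm⟩ : ∃ m, Nat.find hex = m + 1 := Nat.exists_eq_succ_of_ne_zero fun h0 => hb (by
        have := Nat.find_spec hex
        rwa [h0, pow_zero, pow_one] at this)
      let a : F' := b ^ p ^ m
      have ha : a ∉ Set.range (algebraMap F F') := Nat.find_min hex (show m < Nat.find hex by omega)
      have hap : a ^ p ∈ Set.range (algebraMap F F') := by
        rw [← pow_mul, ← pow_succ, ← hm]
        exact Nat.find_spec hex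
      let K : IntermediateField F F' := F⟮a⟯
      have hK : ∀ x : K, ∃ c : F, algebraMap F K c = x ^ p := fun x => by
        suffices h : ∀ x : F', x ∈ K → ∃ c : F, algebraMap F F' c = x ^ p by
          obtain ⟨c, hc⟩ := h x x.2
          exact ⟨c, Subtype.ext hc⟩
        intro x hx
        induction hx using IntermediateField.adjoin_induction with
        | mem x hx =>
          rw [Set.mem_singleton_iff.1 hx]
          exact hap
        | algebraMap r => exact ⟨r ^ p, map_pow _ _ _⟩
        | add x y _ _ hx hy =>
          obtain ⟨c, hc⟩ := hx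
          obtain ⟨e, he⟩ := hy
          exact ⟨c + e, by rw [map_add, hc, he, add_pow_char]⟩
        | inv x _ hx =>
          obtain ⟨c, hc⟩ := hx
          exact ⟨c⁻¹, by rw [map_inv₀, hc, inv_pow]⟩
        | mul x y _ _ hx hy =>
          obtain ⟨c, hc⟩ := hx
          obtain ⟨e, he⟩ := hy
          exact ⟨c * e, by rw [map_mul, hc, he, mul_pow]⟩
      have hlt : Module.finrank K F' ≤ d := by
        have hne : K ≠ ⊥ := fun h => ha (by
          have h1 : a ∈ K := mem_adjoin_simple_self F a
          rw [h, IntermediateField.mem_bot] at h1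
          exact h1)
        have h1 : Module.finrank F K ≠ 1 := fun h => hne (IntermediateField.finrank_eq_one_iff.1 h)
        have h2 := Module.finrank_mul_finrank F K F'
        have h3 : 0 < Module.finrank F K := Module.finrank_pos
        have h4 : 0 < Module.finrank K F' := Module.finrank_pos
        have h5 := Nat.mul_le_mul_right (Module.finrank K F') (show 2 ≤ Module.finrank F K by omega)
        omega
      haveI : IsScalarTower k K F' := IsScalarTower.of_algebraMap_eq fun r => rfl
      obtain ⟨n, z, hn, hz⟩ := exists_pow_descend_aux d K F' hlt y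
      obtain ⟨w, hw⟩ := exists_pow_descend_step (k := k) hK z
      refine ⟨n * p, w, Nat.mul_pos hn hprime.pos, ?_⟩
      rw [pow_mul, ← hz, ← MonObj.comp_pow, ← hw, ← Category.assoc, ysMap_comp]
      exact congrArg (fun σ => ysMap σ ≫ w) (AlgHom.ext fun c => IsScalarTower.algebraMap_apply F K F' c)

theorem comp_prodU {S T : Over (Spec (CommRingCat.of k))} (f : S ⟶ T) {κ : Type*} (s : Finset κ) (x : κ → (T ⟶ G)) :
    f ≫ ∏ i ∈ s, x i = ∏ i ∈ s, f ≫ x i :=
  map_prod ({ toFun := fun h => f ≫ h, map_one' := MonObj.comp_one _, map_mul' := MonObj.comp_mul _ } : (T ⟶ G) →* (S ⟶ G)) x s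

/-- A multiple of a point over a finite purely inseparable extension is defined over the base. -/
theorem exists_pow_descend {F F' : Type u} [Field F] [Field F'] [Algebra k F] [Algebra k F'] [Algebra F F']
    [IsScalarTower k F F'] [FiniteDimensional F F'] [IsPurelyInseparable F F'] (y : Ys (k := k) F' ⟶ G) :
    ∃ (n : ℕ) (z : Ys (k := k) F ⟶ G), 0 < n ∧ ysMap (IsScalarTower.toAlgHom k F F') ≫ z = y ^ n :=
  exists_pow_descend_aux _ F F' le_rfl y

section Trace

variable {F E : Type u} [Field F] [Field E] [Algebra k F] [Algebra k E] [Algebra F E] [IsScalarTower k F E]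
  [FiniteDimensional F E]

/-- A positive multiple of the sum of the conjugates of a point is defined over the base. -/
theorem exists_trace (w : Ys (k := k) E ⟶ G) :
    ∃ (n : ℕ) (T : Ys (k := k) F ⟶ G), 0 < n ∧ ∀ (Ω : Type u) [Field Ω] [IsAlgClosed Ω] [Algebra k Ω] [Algebra F Ω]
      [IsScalarTower k F Ω], ysMap (IsScalarTower.toAlgHom k F Ω) ≫ T =
        (∏ σ : E →ₐ[F] Ω, ysMap (σ.restrictScalars k) ≫ w) ^ n := by
  classical
  let Ω₀ := AlgebraicClosure F
  let N : IntermediateField F Ω₀ := IntermediateField.normalClosure F E Ω₀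
  haveI : FiniteDimensional F N := normalClosure.is_finiteDimensional F E Ω₀
  haveI : Normal F N := normalClosure.normal F E Ω₀
  let y : Ys (k := k) N ⟶ G := ∏ σ : E →ₐ[F] N, ysMap (σ.restrictScalars k) ≫ w
  have hfix : ∀ g : N ≃ₐ[F] N, ysMap (g.toAlgHom.restrictScalars k) ≫ y = y := fun g => by
    show _ ≫ (∏ σ : E →ₐ[F] N, ysMap (σ.restrictScalars k) ≫ w) = ∏ σ : E →ₐ[F] N, ysMap (σ.restrictScalars k) ≫ w
    rw [comp_prodU]
    simp_rw [← Category.assoc, ysMap_comp]
    exact Fintype.prod_equiv
      (⟨fun σ => g.toAlgHom.comp σ, fun σ => g.symm.toAlgHom.comp σ, fun σ => AlgHom.ext fun e => by simp,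
        fun σ => AlgHom.ext fun e => by simp⟩ : (E →ₐ[F] N) ≃ (E →ₐ[F] N)) _ _ fun σ => rfl
  let F' : IntermediateField F N := IntermediateField.fixedField (⊤ : Subgroup (N ≃ₐ[F] N))
  obtain ⟨A, j, _, χ, hχ⟩ := exists_chart y
  obtain ⟨y', hy'⟩ := exists_descend (F'.val.restrictScalars k) F'.val.injective y j hχ fun a =>
    ⟨⟨χ.hom a, fun g => chart_fixed (hfix g.1) hχ a⟩, rfl⟩
  haveI : IsPurelyInseparable F F' := by
    rw [isPurelyInseparable_iff_natSepDegree_eq_one]
    intro x
    rw [← minpoly.algHom_eq F'.val F'.val.injective x,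
      Polynomial.natSepDegree_eq_of_splits (E := N) _ (Normal.splits inferInstance (F'.val x))]
    have hint : IsIntegral F (x : N) := Algebra.IsIntegral.isIntegral _
    suffices h : ((minpoly F (x : N)).aroots N).toFinset = {(x : N)} by
      show ((minpoly F (x : N)).aroots N).toFinset.card = 1
      rw [h, Finset.card_singleton]
    refine Finset.eq_singleton_iff_unique_mem.2 ⟨?_, fun z hz => ?_⟩
    · rw [Multiset.mem_toFinset, Polynomial.mem_aroots]
      exact ⟨minpoly.ne_zero hint, minpoly.aeval F _⟩
    · rw [Multiset.mem_toFinset, Polynomial.mem_aroots] at hz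
      obtain ⟨g, hg⟩ := minpoly.exists_algEquiv_of_root' (hint.isAlgebraic) hz.2
      rw [← hg]
      exact x.2 ⟨g, trivial⟩
  obtain ⟨n, T, hn, hT⟩ := exists_pow_descend (k := k) (F := F) y'
  refine ⟨n, T, hn, fun Ω _ _ _ _ _ => ?_⟩
  let ι₀ : Ω₀ →ₐ[F] Ω := IsAlgClosed.lift
  let jN : N →ₐ[F] Ω := ι₀.comp N.val
  have h1 : ysMap (jN.restrictScalars k) ≫ y = ∏ σ : E →ₐ[F] Ω, ysMap (σ.restrictScalars k) ≫ w := by
    simp only [y, comp_prodU, ← Category.assoc, ysMap_comp]
    refine Fintype.prod_bijective (fun σ => jN.comp σ) ⟨fun σ τ h => ?_, fun τ => ?_⟩ _ _ fun σ => rfl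
    · exact AlgHom.ext fun e => jN.injective congr($h e)
    · haveI : Algebra.IsAlgebraic F E := Algebra.IsAlgebraic.of_finite F E
      let σ₀ : E →ₐ[F] N := (_root_.normalClosure.algHomEquiv F E Ω₀).symm IsAlgClosed.lift
      have hτ : ∀ e, τ e ∈ jN.fieldRange := fun e => by
        have hs : ((minpoly F e).map (algebraMap F N)).Splits := by
          rw [← minpoly.algHom_eq σ₀ σ₀.injective e]
          exact Normal.splits inferInstance (σ₀ e)
        obtain ⟨v, hv⟩ := hs.mem_range_of_isRoot (i := jN.toRingHom) (x := τ e)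
          (Polynomial.map_ne_zero (minpoly.ne_zero (Algebra.IsIntegral.isIntegral e)))
          (by rw [Polynomial.IsRoot, Polynomial.eval_map, Polynomial.eval₂_map,
              show jN.toRingHom.comp (algebraMap F N) = algebraMap F Ω from jN.comp_algebraMap,
              ← Polynomial.aeval_def, Polynomial.aeval_algHom_apply, minpoly.aeval, map_zero])
        exact ⟨v, hv⟩
      let e₀ := AlgEquiv.ofInjectiveField jN
      exact ⟨(e₀.symm : jN.range →ₐ[F] N).comp (τ.codRestrict jN.range fun e => hτ e),
        AlgHom.ext fun e => congrArg Subtype.val (e₀.apply_symm_apply _)⟩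
  rw [← h1, ← hy', ← Category.assoc, ysMap_comp, ← MonObj.comp_pow, ← hT, ← Category.assoc, ysMap_comp]
  exact congrArg (fun σ => ysMap σ ≫ T) (AlgHom.ext fun c => (jN.commutes c).symm)

end Trace

end Groth.Agent.AVSplitLib
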