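import Groth.Agent.VarDim.Fibre
import Groth.Agent.VarDim.Local
import Groth.Agent.VarDim.Top
import Mathlib.RingTheory.Ideal.KrullsHeightTheorem
import Mathlib.CategoryTheory.Monoidal.Cartesian.Over

/-! A subvariety through a point meeting a given closed subvariety properly. -/

noncomputable section

universe u

set_option linter.style.haveILetI false
set_option linter.unusedSectionVars false
set_option backward.isDefEq.respectTransparency false
set_option backward.isDefEq.respectTransparency.types false
set_option maxHeartbeats 1000000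

open CategoryTheory CategoryTheory.Limits AlgebraicGeometry IsLocalRing

namespace Groth.Agent.AVSplitLib

open Groth.Agent

variable {k : Type u} [Field k] {X Y : Scheme.{u}}

/-- Strictly decreasing functions decrease by at least the length along a series. -/
theorem strictAnti_series {α : Type*} [Preorder α] (g : α → ℕ) (hg : ∀ a b, a < b → g b < g a) (l : LTSeries α) :
    l.length ≤ g l.head := by
  suffices h : ∀ j : Fin (l.length + 1), (j : ℕ) + g (l j) ≤ g l.head by
    have := h (Fin.last _)
    simp only [Fin.val_last] at this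
    omega
  intro j
  induction j using Fin.induction with
  | zero => simp [RelSeries.head]
  | succ j ih =>
    have := hg _ _ (l.step j)
    simp only [Fin.val_succ, Fin.val_castSucc] at *
    omega

/-- A point of complementary dimension isolated against a closed subscheme. -/
theorem exists_transversal (q : X ⟶ Spec (CommRingCat.of k)) [LocallyOfFiniteType q] [IrreducibleSpace X]
    (i : Y ⟶ X) [IsClosedImmersion i] [IrreducibleSpace Y] (y₀ : Y) (hy₀ : IsClosed ({y₀} : Set Y)) :
    ∃ z : X, z ⤳ i y₀ ∧ (∀ a : X, z ⤳ a → a ⤳ i y₀ → a ∈ Set.range i → a = i y₀) ∧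
      VarDim.deg q (genericPoint X) ≤ VarDim.deg q z + VarDim.deg (i ≫ q) (genericPoint Y) := by
  classical
  let R := X.presheaf.stalk (i y₀)
  let S := Y.presheaf.stalk y₀
  let ψ : R ⟶ S := i.stalkMap y₀
  have hψ : Function.Surjective ψ.hom := i.stalkMap_surjective y₀
  haveI : IsLocallyNoetherian X := LocallyOfFiniteType.isLocallyNoetherian q
  haveI : IsLocallyNoetherian Y := LocallyOfFiniteType.isLocallyNoetherian (i ≫ q)
  haveI : IsLocalHom ψ.hom := inferInstanceAs (IsLocalHom (i.stalkMap y₀).hom)
  have hx₀ : IsClosed ({i y₀} : Set X) := by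
    have := i.isClosedEmbedding.isClosedMap _ hy₀
    rwa [Set.image_singleton] at this
  obtain ⟨bA, hA, -, hAmax⟩ := VarDim.exists_deg_add_stalk q (i y₀)
  obtain ⟨bS, hS, ⟨η', hη', hη'd⟩, -⟩ := VarDim.exists_deg_add_stalk (i ≫ q) y₀
  rw [(VarDim.closedPoint_iff_deg_eq_zero q _).1 hx₀, zero_add] at hAmax
  rw [(VarDim.closedPoint_iff_deg_eq_zero (i ≫ q) _).1 hy₀, zero_add] at hη'd
  have hbA : VarDim.deg q (genericPoint X) ≤ bA := hAmax _ (genericPoint_specializes _)
  have hbS : bS ≤ VarDim.deg (i ≫ q) (genericPoint Y) :=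
    hη'd ▸ VarDim.deg_le_of_specializes _ (genericPoint_specializes η')
  have htA : (maximalIdeal R).height = (bA : ℕ∞) := by
    have := maximalIdeal_height_eq_ringKrullDim (R := R)
    rw [show ringKrullDim R = ((bA : ℕ∞) : WithBot ℕ∞) from hA] at this
    exact WithBot.coe_eq_coe.1 this
  have htS : (maximalIdeal S).height = (bS : ℕ∞) := by
    have := maximalIdeal_height_eq_ringKrullDim (R := S)
    rw [show ringKrullDim S = ((bS : ℕ∞) : WithBot ℕ∞) from hS] at this
    exact WithBot.coe_eq_coe.1 this
  obtain ⟨s, hs, hcard⟩ := Ideal.exists_finset_card_eq_height_of_isNoetherianRing (maximalIdeal S)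
  rw [htS, Nat.cast_inj] at hcard
  let t : Finset R := s.image (Function.surjInv hψ)
  let J : Ideal R := Ideal.span t
  have hJ : J ≤ maximalIdeal R := Ideal.span_le.2 fun r hr => by
    obtain ⟨c, hc, rfl⟩ := Finset.mem_image.1 hr
    have h1 : ψ.hom (Function.surjInv hψ c) ∈ maximalIdeal S := by
      rw [Function.surjInv_eq hψ]
      exact hs.le (Ideal.subset_span hc)
    exact (mem_maximalIdeal _).2 fun hu => (mem_maximalIdeal _).1 h1 (hu.map ψ.hom)
  haveI := Ideal.isPrime_map_quotientMk_of_isPrime hJ
  let p := (maximalIdeal R).map (Ideal.Quotient.mk J)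
  have hsf : J.spanFinrank ≤ bS := by
    refine (Submodule.spanFinrank_span_le_ncard_of_finite t.finite_toSet).trans ?_
    rw [Set.ncard_coe_finset]
    exact hcard ▸ Finset.card_image_le
  have hle := Ideal.height_le_height_add_spanFinrank_of_le hJ
  obtain ⟨l, hl, hlen⟩ := p.exists_ltSeries_length_eq_height
  let f : PrimeSpectrum (R ⧸ J) → X := fun P =>
    X.fromSpecStalk (i y₀) (PrimeSpectrum.comap (Ideal.Quotient.mk J) P)
  let g : PrimeSpectrum (R ⧸ J) → ℕ := fun P => VarDim.deg q (f P)
  have hg : ∀ P Q, P < Q → g Q < g P := fun P Q h => by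
    have hlt := RingHom.strictMono_comap_of_surjective (f := Ideal.Quotient.mk J) Ideal.Quotient.mk_surjective h
    have hsp : f P ⤳ f Q :=
      ((PrimeSpectrum.le_iff_specializes _ _).1 hlt.le).map (X.fromSpecStalk (i y₀)).continuous
    refine (VarDim.deg_le_of_specializes q hsp).lt_of_ne fun he => hlt.ne ?_
    exact (X.fromSpecStalk (i y₀)).isEmbedding.injective
      (VarDim.eq_of_specializes_of_deg_le q hsp (le_of_eq he.symm))
  have hlen2 := strictAnti_series g hg l
  refine ⟨f l.head, ?_, fun a hza ha har => ?_, ?_⟩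
  · have h0 : (X.fromSpecStalk (i y₀) (closedPoint R)) = i y₀ := Scheme.fromSpecStalk_closedPoint
    rw [← h0]
    exact ((PrimeSpectrum.le_iff_specializes _ _).1 (le_maximalIdeal (PrimeSpectrum.isPrime _).ne_top)).map
      (X.fromSpecStalk (i y₀)).continuous
  · obtain ⟨P, rfl⟩ : a ∈ Set.range (X.fromSpecStalk (i y₀)) := by
      rw [Scheme.range_fromSpecStalk]; exact ha
    obtain ⟨b, hb⟩ := har
    have hby : b ⤳ y₀ := i.isClosedEmbedding.isInducing.specializes_iff.1 (hb ▸ ha)
    obtain ⟨P', rfl⟩ : b ∈ Set.range (Y.fromSpecStalk y₀) := by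
      rw [Scheme.range_fromSpecStalk]; exact hby
    have hPP' : Spec.map ψ P' = P := (X.fromSpecStalk (i y₀)).isEmbedding.injective (by
      rw [← hb]
      exact congr($(Scheme.SpecMap_stalkMap_fromSpecStalk i (x := y₀)) P'))
    have hJP : J ≤ P.asIdeal := by
      have h1 := (PrimeSpectrum.le_iff_specializes _ _).2
        ((X.fromSpecStalk (i y₀)).isEmbedding.isInducing.specializes_iff.1 hza)
      refine le_trans ?_ h1
      intro r hr
      show Ideal.Quotient.mk J r ∈ l.head.asIdeal
      rw [Ideal.Quotient.eq_zero_iff_mem.2 hr]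
      exact zero_mem _
    have hsP : Ideal.span (s : Set S) ≤ PrimeSpectrum.asIdeal (R := S) P' := Ideal.span_le.2 fun c hc => by
      have h1 : Function.surjInv hψ c ∈ P.asIdeal := hJP (Ideal.subset_span (Finset.mem_image_of_mem _ hc))
      rw [← hPP'] at h1
      have h2 : ψ.hom (Function.surjInv hψ c) ∈ PrimeSpectrum.asIdeal (R := S) P' := h1
      rwa [Function.surjInv_eq hψ] at h2
    have hmax : P' = closedPoint S := PrimeSpectrum.ext (le_antisymm (le_maximalIdeal (PrimeSpectrum.isPrime P').ne_top)
      (hs.2 ⟨PrimeSpectrum.isPrime P', hsP⟩ (le_maximalIdeal (PrimeSpectrum.isPrime P').ne_top)))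
    rw [← hb, hmax, Scheme.fromSpecStalk_closedPoint]
  · refine hbA.trans ?_
    rw [htA, ← hlen] at hle
    have h2 : bA ≤ l.length + J.spanFinrank := by exact_mod_cast hle
    show bA ≤ g l.head + _
    omega

end Groth.Agent.AVSplitLib
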